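import Groth.Agent.SpSeqLib.Acyclic
import Mathlib
/-!
Ext groups along an adjunction with exact left adjoint, on objects acyclic for the right adjoint.
-/

set_option autoImplicit false
set_option backward.isDefEq.respectTransparency false
set_option backward.isDefEq.respectTransparency.types false

universe w w' v v' u u'

open CategoryTheory CategoryTheory.Limits CategoryTheory.Abelian

namespace Groth.Agent.ExtAdj

variable {A : Type u} [Category.{v} A] [Abelian A] [EnoughInjectives A] [HasExt.{w} A]
  {B : Type u'} [Category.{v'} B] [Abelian B] [HasExt.{w'} B]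
  {L : B ⥤ A} {R : A ⥤ B} (adj : L ⊣ R) [L.Additive] [R.Additive]
  [PreservesFiniteLimits L] [PreservesFiniteColimits L] (c : B)

/-- The transposition map on Ext groups. -/
noncomputable def transpose (F : A) (p : ℕ) (e : Ext c (R.obj F) p) : Ext (L.obj c) F p :=
  (e.mapExactFunctor L).comp (Ext.mk₀ (adj.counit.app F)) (add_zero p)

theorem transpose_mk₀ {F G : A} (a : F ⟶ G) (p : ℕ) (e : Ext c (R.obj F) p) :
    transpose adj c G p (e.comp (Ext.mk₀ (R.map a)) (add_zero p)) =
      (transpose adj c F p e).comp (Ext.mk₀ a) (add_zero p) := by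
  rw [transpose, transpose, Ext.mapExactFunctor_comp, Ext.mapExactFunctor_mk₀, Ext.comp_assoc_of_second_deg_zero,
    Ext.comp_assoc_of_second_deg_zero, Ext.mk₀_comp_mk₀, Ext.mk₀_comp_mk₀]
  exact congrArg (fun m => (e.mapExactFunctor L).comp (Ext.mk₀ m) (add_zero p)) (adj.counit.naturality a)

theorem transpose_sub (F : A) (p : ℕ) (a b : Ext c (R.obj F) p) :
    transpose adj c F p (a - b) = transpose adj c F p a - transpose adj c F p b := by
  rw [transpose, transpose, transpose, ← Functor.mapExtAddHom_apply, map_sub, sub_eq_add_neg, Ext.add_comp,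
    Ext.neg_comp, ← sub_eq_add_neg]
  rfl

theorem transpose_bijective_zero (F : A) : Function.Bijective (transpose adj c F 0) := by
  have h : ∀ g : c ⟶ R.obj F, transpose adj c F 0 (Ext.mk₀ g) = Ext.mk₀ ((adj.homEquiv c F).symm g) := fun g => by
    rw [transpose, Ext.mapExactFunctor_mk₀, Ext.mk₀_comp_mk₀, Adjunction.homEquiv_counit]
  have e : transpose adj c F 0 =
      ⇑(Ext.homEquiv₀.trans ((adj.homEquiv c F).symm.trans Ext.homEquiv₀.symm)) := funext fun x => by
    obtain ⟨g, rfl⟩ := (Ext.homEquiv₀ (X := c) (Y := R.obj F)).symm.surjective x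
    refine (h g).trans ?_
    simp only [Equiv.trans_apply, Equiv.apply_symm_apply]
    exact (Ext.homEquiv₀_symm_apply _).symm
  rw [e]; exact Equiv.bijective _

/-- Acyclic objects: transposition of Ext groups is bijective. -/
theorem transpose_bijective (F : A) (hF : SpSeqLib.IsAcyclicFor R F) :
    ∀ p : ℕ, Function.Bijective (transpose adj c F p) := by
  intro p
  induction p generalizing F with
  | zero => exact transpose_bijective_zero adj c F
  | succ p ih =>
    haveI : PreservesFiniteLimits R := adj.rightAdjoint_preservesLimits.{0, 0}.preservesFiniteLimits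
    let S : ShortComplex A := ShortComplex.mk (Injective.ι F) (cokernel.π (Injective.ι F)) (cokernel.condition _)
    have hS : S.ShortExact :=
      { exact := S.exact_of_g_is_cokernel (cokernelIsCokernel _) }
    haveI : Mono (S.map R).f := inferInstanceAs (Mono (R.map (Injective.ι F)))
    haveI : Epi (S.map R).g := SpSeqLib.epi_map_of_isZero_rightDerived_one R hS (hF 0)
    have hRS : (S.map R).ShortExact := { exact := (hS.exact.map_of_mono_of_preservesKernel R inferInstance inferInstance) }
    haveI : Injective (R.obj (Injective.under F)) := Injective.injective_of_adjoint adj _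
    haveI : Injective (S.map R).X₂ := ‹Injective (R.obj (Injective.under F))›
    have hI := SpSeqLib.isAcyclicFor_of_injective R (Injective.under F)
    have hQ := SpSeqLib.isAcyclicFor_quotient R hS hI hF
    have hLS : ((S.map R).map L).ShortExact := hRS.map_of_exact L
    let φ : (S.map R).map L ⟶ S :=
      { τ₁ := adj.counit.app _, τ₂ := adj.counit.app _, τ₃ := adj.counit.app _
        comm₁₂ := (adj.counit.naturality S.f).symm
        comm₂₃ := (adj.counit.naturality S.g).symm }
    have hδ : ∀ e : Ext c (R.obj S.X₃) p, transpose adj c F (p + 1) (e.comp hRS.extClass rfl) =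
        (transpose adj c S.X₃ p e).comp hS.extClass rfl := fun e => by
      rw [transpose, transpose, Ext.mapExactFunctor_comp, Ext.mapExactFunctor_extClass,
        Ext.comp_assoc_of_second_deg_zero, Ext.comp_assoc_of_third_deg_zero]
      exact congrArg (fun m => (e.mapExactFunctor L).comp m rfl) (hLS.extClass_naturality hS φ)
    have hX : ∀ x : Ext c (R.obj F) (p + 1), ∃ e : Ext c (R.obj S.X₃) p, e.comp hRS.extClass rfl = x := fun x =>
      Ext.covariant_sequence_exact₁ c hRS x (Ext.eq_zero_of_injective (x.comp (Ext.mk₀ _) (add_zero _))) rfl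
    refine ⟨fun a b hab => ?_, fun y => ?_⟩
    · obtain ⟨a, rfl⟩ := hX a
      obtain ⟨b, rfl⟩ := hX b
      rw [hδ, hδ] at hab
      have hab' : (transpose adj c S.X₃ p (a - b)).comp hS.extClass rfl = 0 := by
        rw [transpose_sub, sub_eq_add_neg, Ext.add_comp, Ext.neg_comp, ← sub_eq_add_neg, sub_eq_zero]
        exact hab
      obtain ⟨u, hu⟩ := Ext.covariant_sequence_exact₃ (L.obj c) hS _ rfl hab'
      obtain ⟨v, rfl⟩ := (ih _ hI).2 u
      have he : a - b = v.comp (Ext.mk₀ (R.map S.g)) (add_zero p) :=
        (ih _ hQ).1 (hu.symm.trans (transpose_mk₀ adj c S.g p v).symm)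
      have h0 : (a - b).comp hRS.extClass rfl = 0 := by
        rw [he, Ext.comp_assoc_of_second_deg_zero]
        exact (congrArg (fun m => v.comp m rfl) hRS.comp_extClass).trans (by simp)
      rw [sub_eq_add_neg, Ext.add_comp, Ext.neg_comp, ← sub_eq_add_neg, sub_eq_zero] at h0
      exact h0
    · obtain ⟨x, hx⟩ := Ext.covariant_sequence_exact₁ (L.obj c) hS y (Ext.eq_zero_of_injective _) rfl
      obtain ⟨e, rfl⟩ := (ih _ hQ).2 x
      exact ⟨e.comp hRS.extClass rfl, (hδ e).trans hx⟩

end Groth.Agent.ExtAdj
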